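import Groth.Agent.Lib.NormFib.Normal
import Groth.Agent.Lib.N2.Completion
import Groth.Agent.Lib.N2.FiniteType
import Groth.Agent.Lib.N2.AnUnram
import Groth.Agent.Lib.N2.LocalCriterion
import Groth.Agent.Lib.Hensel.Reduced
import Groth.Agent.Lib.RegCompl.Basic
import Groth.Agent.Lib.ArSurf29.Spread
import Groth.Agent.Lib.FEt21.Spread

/-!
# Finite normalizations over a local ring
-/

set_option autoImplicit false
set_option linter.all false
set_option backward.isDefEq.respectTransparency false

universe u

open CategoryTheory CategoryTheory.Limits AlgebraicGeometry TopologicalSpace IsLocalRing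
open scoped TensorProduct

noncomputable section

namespace GrothLib.NormFinite29

variable (A : Type u) [CommRing A] [IsLocalRing A] [IsNoetherianRing A]

/-- A domain of finite type whose fraction field stays reduced over the completion of the base has a
finite integral closure. -/
theorem finite_integralClosure {S L : Type u} [CommRing S] [Algebra A S] [Algebra.FiniteType A S] [Field L]
    [Algebra A L] [Algebra S L] [IsScalarTower A S L] [IsFractionRing S L] [IsReduced (Curv2.cpl A ⊗[A] L)] :
    Module.Finite S (integralClosure S L) := by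
  let Â := Curv2.cpl A
  haveI : IsNoetherianRing S := Algebra.FiniteType.isNoetherianRing A S
  haveI : Module.FaithfullyFlat A Â := Module.FaithfullyFlat.of_flat_of_isLocalHom
  let B := S ⊗[A] Â
  haveI : Module.FaithfullyFlat S B := inferInstance
  have hB : CAlg.IsNagata B := by
    letI : Algebra Â B := (Algebra.TensorProduct.includeRight : Â →ₐ[A] B).toRingHom.toAlgebra
    haveI : Algebra.FiniteType Â B := by
      let e : Â ⊗[A] S ≃ₐ[Â] B :=
        AlgEquiv.ofRingEquiv (f := (Algebra.TensorProduct.comm A Â S).toRingEquiv) fun c => by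
          rfl
      exact Algebra.FiniteType.equiv inferInstance e
    exact GrothLib.N2.isNagata_of_finiteType (GrothLib.Cohen.isNagata_of_isAdicComplete Â) B
  haveI : Algebra.EssFiniteType S L := Algebra.EssFiniteType.of_isLocalization _ (nonZeroDivisors S)
  haveI : IsReduced (B ⊗[S] L) :=
    isReduced_of_injective ((Algebra.TensorProduct.comm S B L).toRingEquiv.trans
      ((Algebra.TensorProduct.cancelBaseChange A S S L Â).toRingEquiv.trans
        (Algebra.TensorProduct.comm A L Â).toRingEquiv)) (RingEquiv.injective _)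
  exact GrothLib.N2.finite_integralClosure_of_faithfullyFlat hB

variable {X : Scheme.{u}} [IsIntegral X] (f : X ⟶ Spec (CommRingCat.of A))

/-- The structure algebra of the function field. -/
@[reducible] def algFunctionField : Algebra A X.functionField :=
  ((X.presheaf.germ ⊤ (genericPoint X) trivial).hom.comp (Coh.toGlobal f)).toAlgebra

theorem isFinite_normalizationι [LocallyOfFiniteType f]
    [QuasiCompact (X.fromSpecStalk (genericPoint X))] [QuasiSeparated (X.fromSpecStalk (genericPoint X))]
    (hred : letI := algFunctionField A f; IsReduced (Curv2.cpl A ⊗[A] X.functionField)) :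
    IsFinite (Curv2.normalizationι X) := by
  letI := algFunctionField A f
  haveI := hred
  refine (isFinite_iff _).mpr ⟨inferInstance, fun U hU => ?_⟩
  by_cases hne : Nonempty U
  · letI : Algebra A Γ(X, U) := ((f.appLE ⊤ U le_top).hom.comp (Scheme.ΓSpecIso (CommRingCat.of A)).inv.hom).toAlgebra
    haveI : Algebra.FiniteType A Γ(X, U) :=
      RingHom.FiniteType.comp (f.finiteType_appLE (isAffineOpen_top _) hU le_top)
        (RingHom.FiniteType.of_surjective _
          (ConcreteCategory.bijective_of_isIso (Scheme.ΓSpecIso (CommRingCat.of A)).inv).2)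
    have hη : genericPoint X ∈ U := ((genericPoint_spec X).mem_open_set_iff U.isOpen).mpr (by
      obtain ⟨x⟩ := hne
      exact ⟨x.1, trivial, x.2⟩)
    haveI : IsScalarTower A Γ(X, U) X.functionField := IsScalarTower.of_algebraMap_eq fun a =>
      (TopCat.Presheaf.germ_res_apply X.presheaf (homOfLE (le_top : U ≤ ⊤)) (genericPoint X) hη (Coh.toGlobal f a)).symm
    haveI := functionField_isFractionRing_of_isAffineOpen X U hU
    haveI := finite_integralClosure A (S := Γ(X, U)) (L := X.functionField)
    let _ := NormFib.chartAlgebra (X := X) U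
    obtain ⟨_, _, hic⟩ := NormFib.exists_chart hU
    exact RingHom.finite_algebraMap.mpr (Module.Finite.equiv (IsIntegralClosure.equiv Γ(X, U)
      (integralClosure Γ(X, U) X.functionField) X.functionField Γ(Curv2.normalization X, NormFib.pre U)).toLinearEquiv)
  · have hUbot : U = ⊥ := TopologicalSpace.Opens.ext (Set.eq_empty_iff_forall_notMem.mpr
      fun x hx => hne ⟨⟨x, hx⟩⟩)
    have hb : Curv2.normalizationι X ⁻¹ᵁ U = ⊥ := by rw [hUbot]; rfl
    have : Subsingleton Γ(Curv2.normalization X, Curv2.normalizationι X ⁻¹ᵁ U) :=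
      CommRingCat.subsingleton_of_isTerminal ((Curv2.normalization X).sheaf.isTerminalOfEqEmpty hb)
    exact RingHom.Finite.of_surjective _ fun b => ⟨0, Subsingleton.elim _ _⟩

theorem isReduced_tensor_of_etale [IsReduced (Curv2.cpl A)] (U : X.Opens) (hU : genericPoint X ∈ U)
    [Etale (U.ι ≫ f)] : letI := algFunctionField A f; IsReduced (Curv2.cpl A ⊗[A] X.functionField) := by
  letI := algFunctionField A f
  obtain ⟨V, hV, hηV, hVU⟩ : ∃ V : X.Opens, IsAffineOpen V ∧ genericPoint X ∈ V ∧ V ≤ U := by
    obtain ⟨_, ⟨V, hV, rfl⟩, h1, h2⟩ := X.isBasis_affineOpens.exists_subset_of_mem_open hU U.isOpen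
    exact ⟨V, hV, h1, h2⟩
  haveI : Nonempty V := ⟨⟨_, hηV⟩⟩
  letI : Algebra A Γ(X, V) := ((X.presheaf.map (homOfLE (le_top : V ≤ ⊤)).op).hom.comp (Coh.toGlobal f)).toAlgebra
  haveI : IsScalarTower A Γ(X, V) X.functionField := IsScalarTower.of_algebraMap_eq fun a =>
    (TopCat.Presheaf.germ_res_apply X.presheaf (homOfLE (le_top : V ≤ ⊤)) (genericPoint X) hηV (Coh.toGlobal f a)).symm
  haveI := functionField_isFractionRing_of_isAffineOpen X V hV
  haveI : IsAffine V.toScheme := hV
  haveI : Etale (V.ι ≫ f) := by
    rw [← Scheme.homOfLE_ι X (show V ≤ U from hVU), Category.assoc]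
    infer_instance
  have het : Algebra.Etale A Γ(X, V) := by
    have h1 : (V.ι ≫ f).appTop.hom.Etale := HasRingHomProperty.appTop (P := @Etale) _ inferInstance
    have h2 : (V.ι ≫ f).appTop ≫ V.topIso.hom =
        f.appTop ≫ X.presheaf.map (homOfLE (le_top : V ≤ ⊤)).op := by
      rw [Scheme.Hom.comp_appTop, Category.assoc]
      congr 1
      rw [Scheme.Opens.ι_appTop, Scheme.Opens.topIso_hom, ← Functor.map_comp]
      exact congrArg X.presheaf.map (Subsingleton.elim _ _)
    have h3 : (CommRingCat.ofHom (algebraMap A Γ(X, V))) =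
        (Scheme.ΓSpecIso (CommRingCat.of A)).inv ≫ (V.ι ≫ f).appTop ≫ V.topIso.hom := by
      rw [h2]; rfl
    rw [← RingHom.etale_algebraMap, show algebraMap A Γ(X, V) =
      ((Scheme.ΓSpecIso (CommRingCat.of A)).inv ≫ (V.ι ≫ f).appTop ≫ V.topIso.hom).hom from congrArg CommRingCat.Hom.hom h3]
    exact (RingHom.Etale.respectsIso.cancel_left_isIso (Scheme.ΓSpecIso (CommRingCat.of A)).inv _).2
      ((RingHom.Etale.respectsIso.cancel_right_isIso _ V.topIso.hom).2 h1)
  haveI : IsReduced (Curv2.cpl A ⊗[A] Γ(X, V)) := GrothLib.Hensel.isReduced_of_etale (Curv2.cpl A) _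
  exact GrothLib.N2.isReduced_tensor_of_isFractionRing (A := A) (B := Curv2.cpl A) (S := Γ(X, V)) (L := X.functionField)

theorem isReduced_tensor_of_normal_off_fibre (hY : ∀ y : ↥(Curv2.bcCpl A f),
      (Curv2.bcCplSnd A f).base y ≠ closedPoint (Curv2.cpl A) → _root_.IsReduced ((Curv2.bcCpl A f).presheaf.stalk y)) :
    letI := algFunctionField A f; IsReduced (Curv2.cpl A ⊗[A] X.functionField) := by
  letI := algFunctionField A f
  let η := genericPoint X
  let L := X.functionField
  let Â := Curv2.cpl A
  have hmem : ∀ a : A, a ∈ (f η).asIdeal ↔ algebraMap A L a = 0 := fun a => by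
    rw [← not_iff_not]
    show a ∉ (f η).asIdeal ↔ X.presheaf.germ ⊤ η trivial (Coh.toGlobal f a) ≠ (0 : L)
    rw [← isUnit_iff_ne_zero, ← RingedSpace.mem_basicOpen _ (Coh.toGlobal f a : Γ(X, ⊤)) η trivial]
    show _ ↔ η ∈ X.basicOpen (f.app ⊤ ((Scheme.ΓSpecIso (CommRingCat.of A)).inv a))
    rw [← Scheme.preimage_basicOpen, Scheme.Hom.mem_preimage, basicOpen_eq_of_affine']
    show _ ↔ f η ∈ PrimeSpectrum.basicOpen _
    rw [PrimeSpectrum.mem_basicOpen,
      show (Scheme.ΓSpecIso (CommRingCat.of A)).hom ((Scheme.ΓSpecIso (CommRingCat.of A)).inv a) = a from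
        (Scheme.ΓSpecIso (CommRingCat.of A)).commRingCatIsoToRingEquiv.apply_symm_apply a]
  by_cases hη : f η = closedPoint A
  · have h0 : ∀ a ∈ maximalIdeal A, algebraMap A L a = 0 := fun a ha => (hmem a).1 (by rw [hη]; exact ha)
    let i : L →ₐ[A] Â ⊗[A] L := Algebra.TensorProduct.includeRight
    have hsurj : Function.Surjective i := by
      intro t
      induction t using TensorProduct.induction_on with
      | zero => exact ⟨0, map_zero i⟩
      | tmul c l =>
        obtain ⟨a, ha⟩ := GrothLib.RegCompl.exists_sub_mem_map (maximalIdeal A) (IsNoetherian.noetherian _) c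
        refine ⟨a • l, ?_⟩
        have key : ∀ d ∈ (maximalIdeal A).map (algebraMap A Â), d ⊗ₜ[A] l = 0 := fun d hd => by
          rw [← Submodule.restrictScalars_mem A, ← Ideal.smul_top_eq_map] at hd
          refine Submodule.smul_induction_on (show d ∈ (maximalIdeal A • ⊤ : Submodule A Â) from hd) ?_ ?_
          · intro r hr n _
            rw [TensorProduct.smul_tmul, Algebra.smul_def, h0 r hr, zero_mul, TensorProduct.tmul_zero]
          · intro x y hx hy
            rw [TensorProduct.add_tmul, hx, hy, add_zero]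
        have h := key _ ha
        rw [TensorProduct.sub_tmul, sub_eq_zero] at h
        show (1 : Â) ⊗ₜ[A] (a • l) = c ⊗ₜ[A] l
        rw [← TensorProduct.smul_tmul, ← Algebra.algebraMap_eq_smul_one]
        exact h.symm
      | add a b ha hb =>
        obtain ⟨p, rfl⟩ := ha
        obtain ⟨q, rfl⟩ := hb
        exact ⟨p + q, map_add i p q⟩
    refine ⟨fun t ⟨n, hn⟩ => ?_⟩
    obtain ⟨l, rfl⟩ := hsurj t
    by_cases hl : l = 0
    · rw [hl, map_zero]
    · have hu : IsUnit (i l) := (isUnit_iff_ne_zero.2 hl).map i
      have h1 : IsUnit (0 : Â ⊗[A] L) := hn ▸ hu.pow n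
      exact (isUnit_zero_iff.1 h1) ▸ eq_of_zero_eq_one (isUnit_zero_iff.1 h1) _ _
  · let ι : Spec (CommRingCat.of L) ⟶ X := X.fromSpecStalk η
    let s : Spec (CommRingCat.of Â) ⟶ Spec (CommRingCat.of A) := Spec.map (CommRingCat.ofHom (algebraMap A Â))
    have hι : ι ≫ f = Spec.map (CommRingCat.ofHom (algebraMap A L)) := by
      refine Spec.map_surjective (ι ≫ f) |>.elim fun φ hφ => ?_
      rw [← hφ]
      refine congrArg Spec.map (CommRingCat.hom_ext (RingHom.ext fun a => ?_))
      have h1 : (ι ≫ f).appTop ≫ (Scheme.ΓSpecIso (CommRingCat.of L)).hom =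
          f.appTop ≫ X.presheaf.germ ⊤ η trivial := by
        rw [Scheme.Hom.comp_appTop, Category.assoc]
        congr 1
        show (X.fromSpecStalk η).app ⊤ ≫ _ = _
        rw [Scheme.fromSpecStalk_app (show η ∈ (⊤ : X.Opens) from trivial)]
        simp only [Category.assoc]
        erw [(Spec (CommRingCat.of L)).presheaf.map_id, Category.id_comp, Iso.inv_hom_id, Category.comp_id]
      rw [← hφ, Scheme.ΓSpecIso_naturality] at h1
      have h2 := ConcreteCategory.congr_hom h1 ((Scheme.ΓSpecIso (CommRingCat.of A)).inv a)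
      rw [CommRingCat.comp_apply, show (Scheme.ΓSpecIso (CommRingCat.of A)).hom ((Scheme.ΓSpecIso (CommRingCat.of A)).inv a) = a from
        (Scheme.ΓSpecIso (CommRingCat.of A)).commRingCatIsoToRingEquiv.apply_symm_apply a] at h2
      exact h2
    haveI : IsPreimmersion ι := inferInstance
    haveI : Flat ι := GrothLib.FEt21.flat_fromSpecStalk η
    let j := pullback.snd ι (pullback.fst f s)
    haveI : IsPreimmersion j := inferInstance
    haveI : Flat j := inferInstance
    have hne : ∀ z, pullback.snd f s (j z) ≠ closedPoint Â := fun z hz => by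
      refine hη ?_
      have hgen : ∀ w : ↥(Spec (CommRingCat.of L)), ι w = η := fun w => by
        rw [Subsingleton.elim w (closedPoint L)]; exact Scheme.fromSpecStalk_closedPoint
      have h1 : pullback.fst f s (j z) = η := by
        rw [← Scheme.Hom.comp_apply, ← pullback.condition, Scheme.Hom.comp_apply]
        exact hgen _
      rw [← h1, ← Scheme.Hom.comp_apply, pullback.condition, Scheme.Hom.comp_apply, hz]
      exact IsLocalRing.comap_closedPoint (algebraMap A Â)
    haveI : IsReduced (pullback ι (pullback.fst f s)) := by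
      haveI : ∀ z : ↥(pullback ι (pullback.fst f s)), _root_.IsReduced ((pullback ι (pullback.fst f s)).presheaf.stalk z) := fun z => by
        haveI := hY (j z) (hne z)
        haveI := GrothLib.ArSurf29.isIso_stalkMap_of_flat_preimmersion j z
        exact isReduced_of_injective _ (ConcreteCategory.bijective_of_isIso (inv (j.stalkMap z))).1
      exact isReduced_of_isReduced_stalk _
    let Φ : pullback ι (pullback.fst f s) ≅ Spec (CommRingCat.of (L ⊗[A] Â)) :=
      pullbackRightPullbackFstIso f s ι ≪≫ pullback.congrHom hι rfl ≪≫ pullbackSpecIso A L Â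
    haveI : IsReduced (Spec (CommRingCat.of (L ⊗[A] Â))) := isReduced_of_isOpenImmersion Φ.inv
    haveI : _root_.IsReduced (L ⊗[A] Â) := (affine_isReduced_iff (CommRingCat.of (L ⊗[A] Â))).1 inferInstance
    exact isReduced_of_injective (Algebra.TensorProduct.comm A Â L).toRingEquiv (RingEquiv.injective _)

end GrothLib.NormFinite29
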